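import Cfsg.Agent.H573.Spor.Co0
import Cfsg.Agent.MFive.FixN

/-!
# Elements of orders 2 and 9 of `Co3` (helper799)

`gA` inverts `gX` (of order 9, fixed rank 4); `gT` is an involution commuting with `gY` (of order 9, fixed rank 2).

Generated by a script; checked by the kernel.
-/

set_option autoImplicit false
set_option maxRecDepth 100000

namespace Cfsg.Agent.H799.RO.CoNine

open Cfsg Cfsg.Agent.SporadicA Cfsg.Agent.SporadicStructure.Co0Matrix Cfsg.Agent.CoOneType.CoEval
open Cfsg.Agent.LThreeCo1.Ev Cfsg.Agent.LThreeMB.Fix Cfsg.Agent.MFive.FixN Cfsg.Agent.H573.Spor.Co0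
open Cfsg.Agent.LThreeMB (fr)
open Cfsg.Spor (Co1)

/-- matrix code -/
def nA : ℕ := 0xa4a5094a50942108421084a50949d2941928421284a4e939ce74212842109320e8420e84a4e749d29421284210849d074a509421084210a3a5093a4e9420e8421283a5273a4e9419284210942128421283a52749d27420e83210942128418e839d2939d29421284210849d0949d07421085210839d094a52942128420e83a4e94a4e9420e6421084a50739d0742908421084a5094a4e84a50949d09521084210849d073a4e839d094a50742148421084a5074a4e849d073a509421084214849d074a5283a50749d4942108421083a5074a52839d0939d0942108429084a5093a5283a5074a5074210a4210849d093a5283a5493a509421084210839d094a4e9420e8420e84a5293a527320e84210942126420e849d274a4e742128421084a5093a50742108421083a5473a529421284212649ce73a529420e842109420e83212849d2949ce9420e84210742128421284a5294a5294212841909420e84212839ce94a52742128420c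

/-- matrix code -/
def nX : ℕ := 0xa425294a507421094a129421284a1094a1084192839ce8425083a50742528424e94a549421074a0e9420e83a1093a108420e83a52841d084a507325293a108420e84a4e84250839cc94252841ce749d09421094a1294212a3a10851d294a509421093a127420e83a1094a108321283a4e841d0849d0941d2841d274a509421073a0e9421284a1474a108421264a528425084a509425284252939d09521073a129421283a108424e73a509421093a129428e84a10841d2939d09421494a0e9420e84a10939908421284a4e8425084a50741ce94a106421284a52841d0839d07424e94a108420e83a526425083a50941ce94a0c8420e849d284250849d0741d293a1084212839d283250849d09424e8425273a509421094a8e7421283a1094a108420e849ce841cc84a509424e8424e949d09429093a0e7421284a10841ce93a509421074a127421284a9084252749d09421074a127520e84a1093a1084212849d2841d063a50941d2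

/-- matrix code -/
def nY : ℕ := 0xa425094a1094a1084a5084a52742508525094a1094a10839d0849ce941d09498e84252841ce7420e9421084a1294a0e8424e8424e942129321083a0e93a0e841d2841d2941929421084a0e841d494a1093a10849d083a52941d08425093a1074a1084a5083a4e951d08425074a1073a1083a50a4a52941d094a1284252641d2742127421083a0e841d073a1094a1084a54849d2941d093a128424e841ce932127421084a1274a128425284252942129421064a1293a12841d28424e742129420c83a128425093a1493a1083a50839d29425094a0e841ce83252742127421084a1294a12641d28424e9420e7421084a0e841d093a1074a90839d084a529425093a128424e842527420e9419084a0e94a12831ce841d29420e9421083a128425073a9093a10849d084a4e94250841d074a1094a1483a5083a4e94250841d094a1073a10a4a50849ce942508425074a1074a10849d0839d29425493a0e84252842529420e7421083992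

/-- matrix code -/
def nT : ℕ := 0xa42108421094a508425084212952528521084214949d0842508420e941ce8429084210739d08425484212941d2842148421074a50851d084212941ce84210a421073a54842508420e9424e8421085210939d0841d0852129424e842108429093a508425084292741ce852108421473a50841d08421274252949ce74a4e8421274a12939d083a10949d2739ce8421293a1274a5083a10939d293a528420e73a12949d083a1084210a4210949d4841d084212741d28421084210749d0a4250a42127424e8421484210939d0852508420e7425294a4e93a4e8420e94a0e749d083a10842908421094a50841d48420e7424e842108421093a50a41d0a420e941d2842108521074a50842508520e741d28421084290749d0841d08428e9425293a5274a528421293a0e739d083a1094a52949ce8420e73a0e93a5083a10a421084210739d0841d08420e751ce939ce949d28420e94a1273a5083a1093a4e739d28421274a0e94a5083a10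

theorem okA : okN nA = true := by decide +kernel
theorem okX : okN nX = true := by decide +kernel
theorem okY : okN nY = true := by decide +kernel
theorem okT : okN nT = true := by decide +kernel

/-- element -/
def gA : Co0 := mk (ok_of_okN okA)
theorem repA : Rep gA (dec nA) := rep_mk _
/-- element -/
def gX : Co0 := mk (ok_of_okN okX)
theorem repX : Rep gX (dec nX) := rep_mk _
/-- element -/
def gY : Co0 := mk (ok_of_okN okY)
theorem repY : Rep gY (dec nY) := rep_mk _
/-- element -/
def gT : Co0 := mk (ok_of_okN okT)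
theorem repT : Rep gT (dec nT) := rep_mk _

/-- the elements -/
def e : ℕ → Co0
  | 0 => gA
  | 1 => gX
  | 2 => gY
  | _ => gT

/-- their matrices -/
def Ms : ℕ → List (List ℤ)
  | 0 => dec nA
  | 1 => dec nX
  | 2 => dec nY
  | _ => dec nT

theorem hM : ∀ i, Rep (e i) (Ms i)
  | 0 => repA
  | 1 => repX
  | 2 => repY
  | _ + 3 => repT

theorem a_sq : gA ^ 2 = 1 := by
  have h := eq_of_eqB hM (w := [0, 0]) (w' := []) (by decide +kernel)
  simpa [e, pow_succ, mul_assoc] using h
theorem x_pow : gX ^ 9 = 1 := by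
  have h := eq_of_eqB hM (w := [1, 1, 1, 1, 1, 1, 1, 1, 1]) (w' := []) (by decide +kernel)
  simpa [e, pow_succ, mul_assoc] using h
theorem x_ne : gX ^ 3 ≠ 1 := by
  have h := ne_of_neB' hM (w := [1, 1, 1]) (w' := []) (by decide +kernel)
  simpa [e, pow_succ, mul_assoc] using h
theorem y_pow : gY ^ 9 = 1 := by
  have h := eq_of_eqB hM (w := [2, 2, 2, 2, 2, 2, 2, 2, 2]) (w' := []) (by decide +kernel)
  simpa [e, pow_succ, mul_assoc] using h
theorem y_ne : gY ^ 3 ≠ 1 := by
  have h := ne_of_neB' hM (w := [2, 2, 2]) (w' := []) (by decide +kernel)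
  simpa [e, pow_succ, mul_assoc] using h
theorem t_sq : gT ^ 2 = 1 := by
  have h := eq_of_eqB hM (w := [3, 3]) (w' := []) (by decide +kernel)
  simpa [e, pow_succ, mul_assoc] using h
theorem t_ne : gT ≠ 1 := by
  have h := ne_of_neB' hM (w := [3]) (w' := []) (by decide +kernel)
  simpa [e, pow_succ, mul_assoc] using h
theorem yt : gY * gT = gT * gY := by
  have h := eq_of_eqB hM (w := [2, 3]) (w' := [3, 2]) (by decide +kernel)
  simpa [e, pow_succ, mul_assoc] using h
theorem axax : gA * gX * (gA * gX) = 1 := by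
  have h := eq_of_eqB hM (w := [0, 1, 0, 1]) (w' := []) (by decide +kernel)
  simpa [e, pow_succ, mul_assoc] using h

/-- fixed vectors and dual vectors -/
def vwX : List (List ℤ × List ℤ) := [
  ([2, 0, 0, -4, 0, 2, 0, -2, 2, 2, 2, -2, 2, 2, -2, 0, -2, -2, 0, 2, -2, 2, 2, 4],
   [2, 0, 0, 2, 2, 2, 2, 2, 2, 2, 2, 2, 6, -2, 0, -2, 0, 2, 0, 0, 0, 2, -2, 0]),
  ([1, -1, -1, -1, -1, 1, -1, 1, 1, 1, 1, 1, 1, 1, 1, -1, 1, 1, -1, 1, 1, 1, 1, 3],
   [1, 1, 1, 1, 1, 1, 1, 1, 1, 1, 1, 1, -3, 1, -3, 1, -3, -3, -3, 1, 1, 1, -3, 5]),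
  ([3, 1, 1, -3, 1, -1, 1, -3, -3, -3, -3, -1, -1, 1, 1, 3, 1, -1, 1, 1, -1, 1, -3, 3],
   [0, 0, 0, 2, 2, 2, 2, 2, 2, 2, 2, 2, -4, -2, -2, -2, -2, 0, -2, 0, 0, 2, 4, -2]),
  ([6, 2, 2, 0, 2, 0, 2, 2, 2, 2, 2, 0, 0, 0, 0, 0, 0, 0, 2, 0, 0, 0, 2, -2],
   [-1, -1, 1, 1, 1, 1, -3, 1, 1, 1, 1, -3, 1, 3, -3, -1, -3, -1, -1, 3, 1, 1, 1, 3])]

theorem all_three {α : Type*} {l : List α} {f : α → Bool} (a b : ℕ) (h1 : (l.take a).all f = true)
    (h2 : ((l.drop a).take b).all f = true) (h3 : ((l.drop a).drop b).all f = true) : l.all f = true := by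
  rw [← List.take_append_drop a l, List.all_append, h1, ← List.take_append_drop b (l.drop a), List.all_append, h2, h3]
  rfl

theorem spX0 : ((gens.take 17).all fun g => halfB (res (trn (dec nX) 9 g) vwX)) = true := by decide +kernel
theorem spX1 : (((gens.drop 17).take 16).all fun g => halfB (res (trn (dec nX) 9 g) vwX)) = true := by decide +kernel
theorem spX2 : (((gens.drop 17).drop 16).all fun g => halfB (res (trn (dec nX) 9 g) vwX)) = true := by decide +kernel

theorem spX : spanB 9 (dec nX) vwX = true := all_three 17 16 spX0 spX1 spX2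

theorem frX : fr (QuotientGroup.mk gX : Co1) = 2 ^ 4 :=
  Cfsg.Agent.MFive.FixN.card_fix (n := 9) (by decide) repX (vw := vwX) (by decide +kernel) (by decide +kernel)
    (by decide +kernel) spX

/-- fixed vectors and dual vectors -/
def vwY : List (List ℤ × List ℤ) := [
  ([-1, 1, 1, 3, -3, 1, 5, -3, -1, 1, 1, 1, 1, 1, 3, -1, 1, 1, -1, 1, -1, 1, 1, -1],
   [-2, 0, 0, 0, 0, 0, 0, 0, 0, 0, 0, 0, -2, 0, -2, 0, -2, -2, -2, 0, 0, 0, -2, -2]),
  ([2, 0, -4, -2, 0, 0, 0, 0, -2, 0, 0, 0, 4, -4, -2, 2, 0, 0, 2, 0, 2, 0, 0, 2],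
   [1, 1, 1, 1, 1, 1, 1, 1, 1, 1, 1, 1, -3, 1, -3, 1, -3, -3, -3, 1, 1, 1, -3, 5])]

theorem spY0 : ((gens.take 17).all fun g => halfB (res (trn (dec nY) 9 g) vwY)) = true := by decide +kernel
theorem spY1 : (((gens.drop 17).take 16).all fun g => halfB (res (trn (dec nY) 9 g) vwY)) = true := by decide +kernel
theorem spY2 : (((gens.drop 17).drop 16).all fun g => halfB (res (trn (dec nY) 9 g) vwY)) = true := by decide +kernel

theorem spY : spanB 9 (dec nY) vwY = true := all_three 17 16 spY0 spY1 spY2

theorem frY : fr (QuotientGroup.mk gY : Co1) = 2 ^ 2 :=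
  Cfsg.Agent.MFive.FixN.card_fix (n := 9) (by decide) repY (vw := vwY) (by decide +kernel) (by decide +kernel)
    (by decide +kernel) spY

theorem fr_ne : fr (QuotientGroup.mk gX : Co1) ≠ fr (QuotientGroup.mk gY : Co1) := by
  rw [frX, frY]; norm_num

theorem memA : gA.1 ∈ Spor.Co3 := mem_Co3 repA (by decide +kernel)
theorem memX : gX.1 ∈ Spor.Co3 := mem_Co3 repX (by decide +kernel)
theorem memY : gY.1 ∈ Spor.Co3 := mem_Co3 repY (by decide +kernel)
theorem memT : gT.1 ∈ Spor.Co3 := mem_Co3 repT (by decide +kernel)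

end Cfsg.Agent.H799.RO.CoNine
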