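import Cfsg.Agent.H799.RO.Wreath
import Cfsg.Agent.H729.PairCo3

/-!
# The cyclic subgroups of order 9 of `Sp₆(2)` and of `2.Sp₆(2)` are conjugate (helper799)
-/

set_option autoImplicit false

namespace Cfsg.Agent.H799.RO.SpSix

open Subgroup Cfsg Cfsg.Agent.SporRec.TwoSp6.Sp Cfsg.Agent.H729.PairCo3 Cfsg.Agent.SporRec.TwoSp6.CInvol

/-- the product of transvections -/
def wd (w : List ℕ) : S := (w.map fun d => tr (enc d)).prod

/-- its action on codes -/
def wf (w : List ℕ) (c : ℕ) : ℕ := w.foldr sc c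

theorem act_wd (w : List ℕ) (c : ℕ) : act (wd w) (enc c) = enc (wf w c) := by
  induction w with
  | nil => exact act_one _
  | cons d w ih =>
    change act (tr (enc d) * wd w) (enc c) = enc (sc d (wf w c))
    rw [act_mul, ih, act_tr_enc]

theorem wd_append (u v : List ℕ) : wd (u ++ v) = wd u * wd v := by
  unfold wd
  rw [List.map_append, List.prod_append]

theorem wd_eq {u v : List ℕ} (h : ∀ c < 64, wf u c = wf v c) : wd u = wd v := by
  apply act_ext
  intro x
  obtain ⟨c, hc, rfl⟩ := exists_enc x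
  rw [act_wd, act_wd, h c hc]

theorem wd_ne {u v : List ℕ} (c : ℕ) (h1 : wf u c < 64) (h2 : wf v c < 64) (h : wf u c ≠ wf v c) : wd u ≠ wd v := by
  intro h3
  have h4 := act_wd u c
  rw [h3, act_wd] at h4
  exact h (enc_inj _ h2 _ h1 h4).symm

/-- words -/
def wA : List ℕ := [1, 8]
/-- words -/
def wB : List ℕ := [2, 16]
/-- words -/
def wC : List ℕ := [4, 32]
/-- words -/
def wS : List ℕ := [3, 24, 27, 6, 48, 54]
/-- words -/
def wT : List ℕ := [9, 18, 36]

theorem wd_nil : wd [] = 1 := rfl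

theorem wr : Wr (wd wA) (wd wB) (wd wC) (wd wS) (wd wT) := by
  have p3 : ∀ w : List ℕ, wd w ^ 3 = wd (w ++ w ++ w) := by
    intro w
    rw [wd_append, wd_append, pow_succ, pow_two]
  have hT : (wd wT)⁻¹ = wd wT := by
    rw [inv_eq_iff_mul_eq_one, ← wd_append, ← wd_nil]
    exact wd_eq (by decide +kernel)
  refine ⟨?_, ?_, ?_, ?_, ?_, ?_, ?_, ?_, ?_, ?_, ?_, ?_⟩
  · rw [p3, ← wd_nil]; exact wd_eq (by decide +kernel)
  · rw [p3, ← wd_nil]; exact wd_eq (by decide +kernel)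
  · rw [p3, ← wd_nil]; exact wd_eq (by decide +kernel)
  · rw [p3, ← wd_nil]; exact wd_eq (by decide +kernel)
  · rw [← wd_append, ← wd_append]; exact wd_eq (by decide +kernel)
  · rw [← wd_append, ← wd_append]; exact wd_eq (by decide +kernel)
  · rw [← wd_append, ← wd_append]; exact wd_eq (by decide +kernel)
  · rw [← wd_append, ← wd_append]; exact wd_eq (by decide +kernel)
  · rw [← wd_append, ← wd_append]; exact wd_eq (by decide +kernel)
  · rw [← wd_append, ← wd_append]; exact wd_eq (by decide +kernel)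
  · rw [hT, eq_inv_iff_mul_eq_one, ← wd_append, ← wd_append, ← wd_append, ← wd_nil]
    exact wd_eq (by decide +kernel)
  · rw [hT, ← wd_append, ← wd_append]
    exact wd_eq (by decide +kernel)

/-- repeated words -/
def rep (w : List ℕ) : ℕ → List ℕ
  | 0 => []
  | n + 1 => rep w n ++ w

theorem wd_rep (w : List ℕ) (n : ℕ) : wd (rep w n) = wd w ^ n := by
  induction n with
  | zero => rfl
  | succ n ih =>
    change wd (rep w n ++ w) = _
    rw [wd_append, ih, pow_succ]

theorem finite_S : Finite S := Nat.finite_of_card_ne_zero (by rw [card_S]; norm_num)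

/-- **All cyclic subgroups of order 9 of `Sp₆(2)` are conjugate.** -/
theorem conj_nine {g : S} (hg : orderOf g = 9) :
    ∃ h : S, h * g * h⁻¹ = wd wA * wd wS ∨ h * g * h⁻¹ = (wd wA * wd wS)⁻¹ := by
  have := finite_S
  refine wr.conj_nine (m := 17920) (by rw [card_S]; norm_num) (by norm_num) ?_ ?_ hg
  · intro i hi j hj k hk h
    rw [← wd_rep, ← wd_rep, ← wd_rep, ← wd_append, ← wd_append] at h
    have key : ∀ i j k : Fin 3, wf (rep wA i ++ rep wB j ++ rep wC k) 7 < 64 ∧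
        (wf (rep wA i ++ rep wB j ++ rep wC k) 7 ≠ 7 ∨ ((i : ℕ) = 0 ∧ (j : ℕ) = 0 ∧ (k : ℕ) = 0)) := by decide +kernel
    obtain ⟨h1, h2⟩ := key ⟨i, hi⟩ ⟨j, hj⟩ ⟨k, hk⟩
    exact h2.resolve_left fun hne => wd_ne (v := []) 7 h1 (by decide) hne h
  · intro i hi j hj k hk h
    rw [← wd_rep, ← wd_rep, ← wd_rep, ← wd_append, ← wd_append] at h
    have key : ∀ i j k : Fin 3, ∃ c : Fin 64, wf (rep wA i ++ rep wB j ++ rep wC k) c < 64 ∧ wf wS c < 64 ∧
        wf (rep wA i ++ rep wB j ++ rep wC k) c ≠ wf wS c := by decide +kernel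
    obtain ⟨c, h1, h2, h3⟩ := key ⟨i, hi⟩ ⟨j, hj⟩ ⟨k, hk⟩
    exact wd_ne c h1 h2 h3 h

/-- **All cyclic subgroups of order 9 of `2.Sp₆(2)` are conjugate.** -/
theorem conj_cover {C : Type*} [Group C] {z : C} {π : C →* S} (N : NS z π) {x y : C} (hx : orderOf x = 9)
    (hy : orderOf y = 9) : ∃ c : C, c * x * c⁻¹ = y ∨ c * x * c⁻¹ = y⁻¹ := by
  have hord : ∀ x : C, orderOf x = 9 → orderOf (π x) = 9 := by
    intro x hx
    have h1 : orderOf (π x) ∣ 9 := by rw [← hx]; exact orderOf_map_dvd π x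
    have h2 : π (x ^ orderOf (π x)) = 1 := by rw [map_pow, pow_orderOf_eq_one]
    apply Nat.dvd_antisymm h1
    rcases N.ker _ h2 with h3 | h3
    · rw [← hx]; exact orderOf_dvd_of_pow_eq_one h3
    · have h4 : x ^ (orderOf (π x) * 2) = 1 := by
        rw [pow_mul, h3, pow_two]; exact N.z_sq
      have h5 := orderOf_dvd_of_pow_eq_one h4
      rw [hx] at h5
      exact (Nat.Coprime.dvd_of_dvd_mul_right (by norm_num) h5)
  obtain ⟨u, hu⟩ := conj_nine (hord x hx)
  obtain ⟨v, hv⟩ := conj_nine (hord y hy)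
  have h1 : ∃ w : S, w * π x * w⁻¹ = π y ∨ w * π x * w⁻¹ = (π y)⁻¹ := by
    refine ⟨v⁻¹ * u, ?_⟩
    have e1 : v⁻¹ * u * π x * (v⁻¹ * u)⁻¹ = v⁻¹ * (u * π x * u⁻¹) * v := by group
    rw [e1]
    rcases hu with hu | hu <;> rcases hv with hv | hv
    · left; rw [hu, ← hv]; group
    · right
      rw [hu, ← inv_inv (wd wA * wd wS), ← hv]; group
    · right
      rw [hu, ← hv]; group
    · left; rw [hu, ← hv]; group
  obtain ⟨w, hw⟩ := h1
  obtain ⟨c, rfl⟩ := N.surj w
  have hfin : ∀ y' : C, orderOf y' = 9 → π c * π x * (π c)⁻¹ = π y' → c * x * c⁻¹ = y' := by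
    intro y' hy' h
    have h2 : π (c * x * c⁻¹ * y'⁻¹) = 1 := by
      rw [map_mul, map_mul, map_mul, map_inv, map_inv, h, mul_inv_cancel]
    rcases N.ker _ h2 with h3 | h3
    · exact mul_inv_eq_one.1 h3
    · exfalso
      have h4 : c * x * c⁻¹ = z * y' := mul_inv_eq_iff_eq_mul.1 h3
      have h5 : (c * x * c⁻¹) ^ 9 = 1 := by
        rw [conj_pow, ← hx, pow_orderOf_eq_one, mul_one, mul_inv_cancel]
      have hzc : Commute z y' := N.z_comm y'
      have h6 : (y') ^ 9 = 1 := by rw [← hy', pow_orderOf_eq_one]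
      rw [h4, hzc.mul_pow, h6, mul_one] at h5
      have h7 : z ^ 9 = z := by
        rw [show 9 = 2 * 4 + 1 from rfl, pow_succ, pow_mul, pow_two, N.z_sq, one_pow, one_mul]
      rw [h7] at h5
      exact N.z_ne h5
  refine ⟨c, ?_⟩
  rcases hw with hw | hw
  · exact Or.inl (hfin y hy hw)
  · right
    apply hfin y⁻¹ (by rw [orderOf_inv, hy])
    rw [hw, map_inv]

end Cfsg.Agent.H799.RO.SpSix
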