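import Cfsg.Agent.H101.RealOdd
import Cfsg.Agent.H729.PairCo3N
import Cfsg.Agent.H573.Spor.Mathieu
import Cfsg.Agent.H799.RO.SpSix
import Cfsg.Agent.H799.RO.CoNine

/-!
# `Co₃` has a real element of order 9 with centralizer of odd order (helper799, S2248)

The elements of order 9 commuting with an involution lie in `C(2A) = 2.Sp₆(2)`, and all their cyclic subgroups are
conjugate there; `gX` and `gY` have different numbers of fixed points on `Λ / 2Λ`.
-/

set_option autoImplicit false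

namespace Cfsg.Agent.H799.RO.RowCo3

open Subgroup Cfsg Cfsg.Agent.H101.RO
open Cfsg.Agent.SporRec.TwoSp6.Sp Cfsg.Agent.SporRec.TwoSp6.CInvol
open Cfsg.Agent.SporRec.Co3.Fusion (tC)
open Cfsg.Agent.SporRec.Co3.Chain Cfsg.Agent.SporRec.Co3.Ident Cfsg.Agent.SigZero

universe u

/-- the Sylow 3-subgroup has exponent 3 -/
theorem no_nine {G : Type*} [Group G] [Finite G] (h27 : 3 ^ 3 ∣ Nat.card G) (h81 : ¬ 3 ^ 4 ∣ Nat.card G) {a b c : G}
    (ha : a ^ 3 = 1) (hb : b ^ 3 = 1) (hc : c ^ 3 = 1) (hac : a * c = c * a) (hbc : b * c = c * b)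
    (hab : a * b = b * a * c) (hne : a * b ≠ b * a) (g : G) : orderOf g ≠ 9 := by
  intro hg
  have h3 : Fact (Nat.Prime 3) := ⟨Nat.prime_three⟩
  have cac : Commute a c := hac
  have cbc : Commute b c := hbc
  have hba : b * a = a * b * c ^ 2 := by
    rw [hab, mul_assoc, ← pow_succ', hc, mul_one]
  have e1 : ∀ j : ℕ, b ^ j * a = a * b ^ j * c ^ (2 * j) := by
    intro j
    induction j with
    | zero => simp
    | succ j ih =>
      calc b ^ (j + 1) * a = b ^ j * (b * a) := by rw [pow_succ]; group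
        _ = (b ^ j * a) * b * c ^ 2 := by rw [hba]; group
        _ = a * b ^ j * (c ^ (2 * j) * b) * c ^ 2 := by rw [ih]; group
        _ = a * b ^ j * (b * c ^ (2 * j)) * c ^ 2 := by rw [(cbc.pow_right (2 * j)).eq]
        _ = a * b ^ (j + 1) * c ^ (2 * (j + 1)) := by
          rw [pow_succ, show 2 * (j + 1) = 2 * j + 2 by ring, pow_add]; group
  have e2 : ∀ i j : ℕ, b ^ j * a ^ i = a ^ i * b ^ j * c ^ (2 * j * i) := by
    intro i j
    induction i with
    | zero => simp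
    | succ i ih =>
      calc b ^ j * a ^ (i + 1) = (b ^ j * a ^ i) * a := by rw [pow_succ]; group
        _ = a ^ i * b ^ j * (c ^ (2 * j * i) * a) := by rw [ih]; group
        _ = a ^ i * b ^ j * (a * c ^ (2 * j * i)) := by rw [(cac.pow_right (2 * j * i)).eq]
        _ = a ^ i * (b ^ j * a) * c ^ (2 * j * i) := by group
        _ = a ^ i * (a * b ^ j * c ^ (2 * j)) * c ^ (2 * j * i) := by rw [e1]
        _ = a ^ (i + 1) * b ^ j * c ^ (2 * j * (i + 1)) := by
          rw [pow_succ, show 2 * j * (i + 1) = 2 * j + 2 * j * i by ring, pow_add]; group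
  have hmul : ∀ i j k i' j' k' : ℕ, (a ^ i * b ^ j * c ^ k) * (a ^ i' * b ^ j' * c ^ k') =
      a ^ (i + i') * b ^ (j + j') * c ^ (k + k' + 2 * j * i') := by
    intro i j k i' j' k'
    calc (a ^ i * b ^ j * c ^ k) * (a ^ i' * b ^ j' * c ^ k')
        = a ^ i * b ^ j * (c ^ k * a ^ i') * b ^ j' * c ^ k' := by group
      _ = a ^ i * b ^ j * (a ^ i' * c ^ k) * b ^ j' * c ^ k' := by rw [(cac.pow_pow i' k).eq]
      _ = a ^ i * (b ^ j * a ^ i') * (c ^ k * b ^ j') * c ^ k' := by group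
      _ = a ^ i * (a ^ i' * b ^ j * c ^ (2 * j * i')) * (b ^ j' * c ^ k) * c ^ k' := by
        rw [e2, (cbc.pow_pow j' k).eq]
      _ = a ^ i * a ^ i' * b ^ j * (c ^ (2 * j * i') * b ^ j') * c ^ k * c ^ k' := by group
      _ = a ^ i * a ^ i' * b ^ j * (b ^ j' * c ^ (2 * j * i')) * c ^ k * c ^ k' := by
        rw [(cbc.pow_pow j' (2 * j * i')).eq]
      _ = _ := by
        rw [pow_add, pow_add, show k + k' + 2 * j * i' = 2 * j * i' + k + k' by ring, pow_add, pow_add]
        group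
  have hcube : ∀ i j k : ℕ, (a ^ i * b ^ j * c ^ k) ^ 3 = 1 := by
    intro i j k
    rw [pow_succ, pow_two, hmul, hmul, show i + i + i = 3 * i by ring, show j + j + j = 3 * j by ring,
      show k + k + 2 * j * i + k + 2 * (j + j) * i = 3 * (k + 2 * j * i) by ring, pow_mul, pow_mul, pow_mul, ha, hb, hc,
      one_pow, one_pow, one_pow, one_mul, one_mul]
  let P : Subgroup G :=
    { carrier := {x | ∃ i j k : ℕ, x = a ^ i * b ^ j * c ^ k}
      one_mem' := ⟨0, 0, 0, by simp⟩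
      mul_mem' := by
        rintro _ _ ⟨i, j, k, rfl⟩ ⟨i', j', k', rfl⟩
        exact ⟨_, _, _, hmul i j k i' j' k'⟩
      inv_mem' := by
        rintro _ ⟨i, j, k, rfl⟩
        refine ⟨_, _, _, (?_ : (a ^ i * b ^ j * c ^ k)⁻¹ = _).trans (hmul i j k i j k)⟩
        rw [inv_eq_iff_mul_eq_one, ← mul_assoc, ← pow_two, ← pow_succ]
        exact hcube i j k }
  have hP3 : ∀ x ∈ P, x ^ 3 = 1 := by
    rintro _ ⟨i, j, k, rfl⟩
    exact hcube i j k
  have hPp : IsPGroup 3 P := fun x => ⟨1, Subtype.ext (by rw [pow_one]; exact hP3 x x.2)⟩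
  obtain ⟨Q, hQ⟩ := hPp.exists_le_sylow
  have hfac : (Nat.card G).factorization 3 = 3 := by
    have h1 : Nat.card G ≠ 0 := Nat.card_pos.ne'
    have h2 := (Nat.prime_three.pow_dvd_iff_le_factorization h1).1 h27
    by_contra hne
    exact h81 ((Nat.prime_three.pow_dvd_iff_le_factorization h1).2 (by omega))
  have hQc : Nat.card Q = 3 ^ 3 := by rw [Sylow.card_eq_multiplicity, hfac]
  obtain ⟨n, hn⟩ := IsPGroup.iff_card.1 hPp
  have hn3 : 3 ≤ n := by
    by_contra hlt
    have hab' : ∀ x y : P, x * y = y * x := by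
      have hcases : n = 0 ∨ n = 1 ∨ n = 2 := by omega
      rcases hcases with rfl | rfl | rfl
      · have : Subsingleton P := (Nat.card_eq_one_iff_unique.1 (by rw [hn, pow_zero])).1
        intro x y
        exact Subsingleton.elim _ _
      · have := isCyclic_of_prime_card (α := P) (p := 3) (by rw [hn, pow_one])
        intro x y
        exact (IsCyclic.commGroup (α := P)).mul_comm x y
      · intro x y
        have := IsPGroup.isMulCommutative_of_card_eq_prime_sq hn
        exact (this.is_comm.comm x y)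
    apply hne
    have h1 := hab' ⟨a, 1, 0, 0, by simp⟩ ⟨b, 0, 1, 0, by simp⟩
    exact congrArg Subtype.val h1
  have hPQ : P = Q := by
    apply Subgroup.eq_of_le_of_card_ge hQ
    rw [hQc, hn]
    exact Nat.pow_le_pow_right (by norm_num) hn3
  have hgp : IsPGroup 3 (zpowers g) := IsPGroup.of_card (n := 2) (by rw [Nat.card_zpowers, hg]; norm_num)
  obtain ⟨R, hR⟩ := hgp.exists_le_sylow
  obtain ⟨h, hh⟩ := MulAction.exists_smul_eq G R Q
  have hmem : h * g * h⁻¹ ∈ P := by
    rw [hPQ, ← hh, Sylow.coe_subgroup_smul]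
    exact Subgroup.smul_mem_pointwise_smul g (MulAut.conj h) (R : Subgroup G) (hR (mem_zpowers g))
  have h1 := hP3 _ hmem
  rw [conj_pow, mul_inv_eq_one, mul_eq_left] at h1
  have h2 := orderOf_dvd_of_pow_eq_one h1
  rw [hg] at h2
  norm_num at h2

theorem M12_no_nine (g : Spor.M12) : orderOf g ≠ 9 := by
  have hf : Finite Spor.M12 := Nat.finite_of_card_ne_zero (by
    rw [Cfsg.Agent.MTwelveType.SylowModel.card_M12]; norm_num)
  refine no_nine (G := Spor.M12) (a := ⟨_, Cfsg.Agent.H573.Spor.Mat.a_mem⟩) (b := ⟨_, Cfsg.Agent.H573.Spor.Mat.b_mem⟩)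
    (c := ⟨_, Cfsg.Agent.H573.Spor.Mat.c_mem⟩) (by rw [Cfsg.Agent.MTwelveType.SylowModel.card_M12]; norm_num)
    (by rw [Cfsg.Agent.MTwelveType.SylowModel.card_M12]; norm_num) (Subtype.ext Cfsg.Agent.H573.Spor.Mat.a3)
    (Subtype.ext Cfsg.Agent.H573.Spor.Mat.b3) (Subtype.ext Cfsg.Agent.H573.Spor.Mat.c3)
    (Subtype.ext Cfsg.Agent.H573.Spor.Mat.ac) (Subtype.ext Cfsg.Agent.H573.Spor.Mat.bc)
    (Subtype.ext Cfsg.Agent.H573.Spor.Mat.ab)
    (fun h => Cfsg.Agent.H573.Spor.Mat.ab_ne (congrArg Subtype.val h)) g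

/-- an involution commuting with an element of order 9 is of type `2A` -/
theorem inv_of_nine {s x : G3} (hs2 : s * s = 1) (hs1 : s ≠ 1) (hx : orderOf x = 9) (hc : x * s = s * x) :
    ∃ g, g * Z * g⁻¹ = s := by
  obtain ⟨e⟩ := SigZero.CoThree.exists_equiv
  rcases SigZero.CoThree.classes (w := e CoThreeB.wK) (by rw [← map_mul, CoThreeB.wK_sq, map_one])
      (fun h => CoThreeB.wK_ne ((map_eq_one_iff e e.injective).1 h))
      (by
        rw [Cfsg.Agent.H729.PairCo3N.card_centralizer_map]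
        exact SigZero.CoThree.card_C_le) hs2 hs1 with h | ⟨g, hg⟩
  · exact h
  · exfalso
    -- `y = e⁻¹ (g⁻¹ x g)` commutes with `wK`
    let y : CoThreeB.K := e.symm (g⁻¹ * x * g)
    have hy : y * CoThreeB.wK = CoThreeB.wK * y := by
      apply e.injective
      rw [map_mul, map_mul, e.apply_symm_apply]
      have h1 : e CoThreeB.wK = g⁻¹ * s * g := by rw [← hg]; group
      rw [h1]
      calc g⁻¹ * x * g * (g⁻¹ * s * g) = g⁻¹ * (x * s) * g := by group
        _ = g⁻¹ * (s * x) * g := by rw [hc]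
        _ = _ := by group
    have hyo : orderOf y = 9 := by
      rw [MulEquiv.orderOf_eq]
      rw [← hx]
      have h2 := orderOf_injective (MulAut.conj g⁻¹).toMonoidHom (MulAut.conj g⁻¹).injective x
      simpa [MulAut.conj_apply] using h2
    let yc : centralizer ({CoThreeB.wK} : Set CoThreeB.K) := ⟨y, mem_centralizer_singleton_iff.2 hy⟩
    have hyc : orderOf yc = 9 := by rw [← hyo]; exact Subgroup.orderOf_mk _ _
    have h1 : orderOf (CoThreeB.proj yc) ∣ 9 := by rw [← hyc]; exact orderOf_map_dvd _ _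
    have h2 : CoThreeB.proj (yc ^ orderOf (CoThreeB.proj yc)) = 1 := by rw [map_pow, pow_orderOf_eq_one]
    refine M12_no_nine (CoThreeB.proj yc) (Nat.dvd_antisymm h1 ?_)
    rcases CoThreeB.ker_proj h2 with h3 | h3
    · rw [← hyc]; exact orderOf_dvd_of_pow_eq_one h3
    · have h4 : yc ^ (orderOf (CoThreeB.proj yc) * 2) = 1 := by
        rw [pow_mul, pow_two]
        apply Subtype.ext
        rw [Subgroup.coe_mul, h3]
        exact CoThreeB.wK_sq
      have h5 := orderOf_dvd_of_pow_eq_one h4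
      rw [hyc] at h5
      exact (Nat.Coprime.dvd_of_dvd_mul_right (by norm_num) h5)

/-- two elements of order 9 commuting with involutions generate conjugate subgroups -/
theorem conj_of_nine {s x s' y : G3} (hs2 : s * s = 1) (hs1 : s ≠ 1) (hx : orderOf x = 9) (hc : x * s = s * x)
    (hs2' : s' * s' = 1) (hs1' : s' ≠ 1) (hy : orderOf y = 9) (hc' : y * s' = s' * y) :
    ∃ g, g * x * g⁻¹ = y ∨ g * x * g⁻¹ = y⁻¹ := by
  obtain ⟨π, N⟩ := KFacts.Co3D4.exists_NS_G3
  obtain ⟨g, hg⟩ := inv_of_nine hs2 hs1 hx hc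
  obtain ⟨g', hg'⟩ := inv_of_nine hs2' hs1' hy hc'
  have hcomm : ∀ {s x g : G3}, g * Z * g⁻¹ = s → x * s = s * x → (g⁻¹ * x * g) * Z = Z * (g⁻¹ * x * g) := by
    intro s x g hg hc
    have h1 : Z = g⁻¹ * s * g := by rw [← hg]; group
    rw [h1]
    calc g⁻¹ * x * g * (g⁻¹ * s * g) = g⁻¹ * (x * s) * g := by group
      _ = g⁻¹ * (s * x) * g := by rw [hc]
      _ = _ := by group
  have hord : ∀ {x g : G3}, orderOf x = 9 → orderOf (g⁻¹ * x * g) = 9 := by
    intro x g hx
    rw [← hx]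
    have h2 := orderOf_injective (MulAut.conj g⁻¹).toMonoidHom (MulAut.conj g⁻¹).injective x
    simpa [MulAut.conj_apply] using h2
  let xc : centralizer ({Z} : Set G3) := ⟨g⁻¹ * x * g, mem_centralizer_singleton_iff.2 (hcomm hg hc)⟩
  let yc : centralizer ({Z} : Set G3) := ⟨g'⁻¹ * y * g', mem_centralizer_singleton_iff.2 (hcomm hg' hc')⟩
  have hxc : orderOf xc = 9 := by rw [← hord (g := g) hx]; exact Subgroup.orderOf_mk _ _
  have hyc : orderOf yc = 9 := by rw [← hord (g := g') hy]; exact Subgroup.orderOf_mk _ _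
  obtain ⟨c, hcc⟩ := SpSix.conj_cover N hxc hyc
  refine ⟨g' * c * g⁻¹, ?_⟩
  have e1 : g' * c * g⁻¹ * x * (g' * c * g⁻¹)⁻¹ = g' * ((c * xc * c⁻¹ : centralizer ({Z} : Set G3)) : G3) * g'⁻¹ := by
    change _ = g' * ((c : G3) * (g⁻¹ * x * g) * (c : G3)⁻¹) * g'⁻¹
    group
  rw [e1]
  rcases hcc with h | h
  · left
    rw [h]
    change g' * (g'⁻¹ * y * g') * g'⁻¹ = y
    group
  · right
    rw [h]
    change g' * (g'⁻¹ * y * g')⁻¹ * g'⁻¹ = y⁻¹
    group

open CoNine Cfsg.Agent.H573.Spor.Co0 in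
theorem real_Co3 : RealOdd ↥Spor.Co3 := by
  have hf3 := Cfsg.Agent.H729.PairCo3N.finite_G3
  have hf : Finite Spor.Co3 := Finite.of_equiv _ SporRec.Co3.Model.equivCo3.toEquiv
  have ord9 : ∀ {G : Type} [Group G] (g : G), g ^ 9 = 1 → g ^ 3 ≠ 1 → orderOf g = 9 := by
    intro G _ g h9 h3
    have := orderOf_eq_prime_pow (p := 3) (n := 1) (hp := ⟨Nat.prime_three⟩) (x := g) (by rw [pow_one]; exact h3)
      (by norm_num; exact h9)
    simpa using this
  let x : Spor.Co3 := ⟨gX.1, memX⟩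
  let y : Spor.Co3 := ⟨gY.1, memY⟩
  let a : Spor.Co3 := ⟨gA.1, memA⟩
  let t : Spor.Co3 := ⟨gT.1, memT⟩
  have cv : ∀ {g h : Co0}, g = h → g.1 = h.1 := fun h => congrArg Subtype.val h
  have hx : orderOf x = 9 := ord9 x (Subtype.ext (show gX.1 ^ 9 = 1 from cv x_pow))
    (fun h => x_ne (Subtype.ext (show gX.1 ^ 3 = 1 from congrArg Subtype.val h)))
  have hy : orderOf y = 9 := ord9 y (Subtype.ext (show gY.1 ^ 9 = 1 from cv y_pow))
    (fun h => y_ne (Subtype.ext (show gY.1 ^ 3 = 1 from congrArg Subtype.val h)))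
  have ht2 : t * t = 1 := by
    have h := t_sq
    rw [pow_two] at h
    exact Subtype.ext (show gT.1 * gT.1 = 1 from cv h)
  have ht1 : t ≠ 1 := fun h => t_ne (Subtype.ext (show gT.1 = 1 from congrArg Subtype.val h))
  have hyt : y * t = t * y := Subtype.ext (show gY.1 * gT.1 = gT.1 * gY.1 from cv yt)
  have ha2 : a * a = 1 := by
    have h := a_sq
    rw [pow_two] at h
    exact Subtype.ext (show gA.1 * gA.1 = 1 from cv h)
  have hax : a * x * (a * x) = 1 := Subtype.ext (show gA.1 * gX.1 * (gA.1 * gX.1) = 1 from cv axax)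
  refine RealOdd.of_elts (x := x) (y := a) (p := 3) (k := 2) Nat.prime_three (by norm_num) (by norm_num)
    (by rw [hx]; norm_num) ?_ ?_
  · have h1 : a⁻¹ = a := inv_eq_of_mul_eq_one_left ha2
    rw [h1, eq_inv_iff_mul_eq_one, mul_assoc]
    exact hax
  · intro s hs hsx
    have hs2 : s * s = 1 := by rw [← pow_two, ← hs, pow_orderOf_eq_one]
    have hs1 : s ≠ 1 := fun h => by rw [h, orderOf_one] at hs; norm_num at hs
    let e := SporRec.Co3.Model.equivCo3.symm
    have hne : ∀ {g : Spor.Co3}, g ≠ 1 → e g ≠ 1 := fun hg h => hg ((map_eq_one_iff e e.injective).1 h)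
    obtain ⟨g, hg⟩ := conj_of_nine (s := e s) (x := e x) (s' := e t) (y := e y)
      (by rw [← map_mul, hs2, map_one]) (hne hs1) (by rw [MulEquiv.orderOf_eq, hx])
      (by rw [← map_mul, ← map_mul, hsx]) (by rw [← map_mul, ht2, map_one]) (hne ht1) (by rw [MulEquiv.orderOf_eq, hy])
      (by rw [← map_mul, ← map_mul, hyt])
    have hX : (Spor.Co3 : Subgroup (Equiv.Perm leechLattice)) ≤ Co0 := fun g hg => hg.1
    have hk : ∃ k : ℕ, e.symm g * x * (e.symm g)⁻¹ = y ^ k ∧ (y ^ k) ^ (k : ℤ) = y := by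
      rcases hg with hg | hg
      · refine ⟨1, ?_, by simp⟩
        apply e.injective
        rw [map_mul, map_mul, map_inv, e.apply_symm_apply, hg, pow_one]
      · refine ⟨8, ?_, ?_⟩
        · apply e.injective
          rw [map_mul, map_mul, map_inv, e.apply_symm_apply, hg]
          have h1 : y ^ 8 = y⁻¹ := by
            rw [eq_inv_iff_mul_eq_one, ← pow_succ]
            exact (by rw [← hy, pow_orderOf_eq_one] : y ^ 9 = 1)
          rw [h1, map_inv]
        · rw [zpow_natCast, ← pow_mul]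
          have h1 : y ^ 9 = 1 := by rw [← hy, pow_orderOf_eq_one]
          rw [show 8 * 8 = 9 * 7 + 1 by norm_num, pow_succ, pow_mul, h1, one_pow, one_mul]
    obtain ⟨k, hk1, hk2⟩ := hk
    apply fr_ne
    have e1 : toCo1 _ hX x = (QuotientGroup.mk gX : Spor.Co1) := rfl
    have e2 : toCo1 _ hX y = (QuotientGroup.mk gY : Spor.Co1) := rfl
    rw [← e1, ← e2]
    refine fr_eq_of_conj (u := toCo1 _ hX (e.symm g)) (k := k) (m := k) ?_ ?_
    · rw [← map_inv, ← map_mul, ← map_mul, hk1, map_pow]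
    · rw [← map_pow, ← map_zpow, hk2]

/-- **`Co₃`.** -/
theorem ro_Co3 {G : Type u} [Group G] [Finite G] (h : Cfsg.Spor.IsoCo3 G) : Cfsg.Agent.H101.RO.RealOdd G := by
  obtain ⟨e⟩ := h
  exact RealOdd.congr e.symm real_Co3

end Cfsg.Agent.H799.RO.RowCo3
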