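import Cfsg.Agent.H573.Spor.Co0
import Cfsg.Agent.MFive.FixN

/-!
# Elements of orders 2 and 5 of `McL` (helper799)

`gA` inverts `gX` (of order 5, fixed rank 8) and commutes with `gY` (of order 5, fixed rank 4).

Generated by a script; checked by the kernel.
-/

set_option autoImplicit false
set_option maxRecDepth 100000

namespace Cfsg.Agent.H799.RO.McLFive

open Cfsg Cfsg.Agent.SporadicA Cfsg.Agent.SporadicStructure.Co0Matrix Cfsg.Agent.CoOneType.CoEval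
open Cfsg.Agent.LThreeCo1.Ev Cfsg.Agent.LThreeMB.Fix Cfsg.Agent.MFive.FixN Cfsg.Agent.H573.Spor.Co0
open Cfsg.Agent.LThreeMB (fr)
open Cfsg.Spor (Co1)

/-- matrix code -/
def nA : ℕ := 0xb420e842109421084a508421084a5284a5073a52849d29421273a527421084a50749ce849ce9421294a4e9421074216842109421084a508421084a52839d0949d284a4e9421273a529421083a5094a52849d274212749ce94210849d074a5283a529420e74a4e94210849d094a52849ce7420e94a527421094212842107421083ad084210839ce84a50949d284a529420e939ce74210839d093a4e84a529421294a4e74210849d074a4e84a5274212939d29421084a5093a4e84a4e9420e749d294210942128421074210859d084210839ce9421284210b4210839d084210839ce84a50949ce83a527421274a527421083a50739d284a527420e94a529421083a5074a5283a4e94212949d27421084a5093a5283a4e7421293a4e94210849d0939d2839d294212949d29421083a5094a4e839d29420e93a5294210942128421074210839d084210859ce942128421074210839d08421083ace942128421074210839d084210839d6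

/-- matrix code -/
def nX : ℕ := 0xb420e842109421084a508421084a5283a5094a4e839d29420e93a529421084a5093a5283a4e7421293a4e94210849d074a5283a529420e74a4e94210942128421074210859d084210839ce83a5094a52849d274212749ce9421074216842109421084a508421084a5294212842107421083ad084210839ce849d094a52849ce7420e94a527421084a50949d284a529420e939ce74210839d093a4e84a529421294a4e7421084a50949ce83a527421274a5274210942128421074210839d08421083ace839d0949d284a4e9421273a52942109421284210b4210839d084210839ce849d074a4e84a5274212939d294210849d0939d2839d294212949d29421083a5074a5283a4e94212949d27421084a50749ce849ce9421294a4e9421083a50739d284a527420e94a529421084a5073a52849d29421273a5274210942128421074210839d084210859ce84a5093a4e84a4e9420e749d294210942128421074210839d084210839d6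

/-- matrix code -/
def nY : ℕ := 0xac62f8bdf18c5ef8c62f8ce318c6338c6338bdf18c5ef6c5b36be318c62f8c62f8cdf16c5f38b62f6be318c62f7bdf19c62f9be317be717c66f9bdf18b62f6bdf18c6736c62f8be318c62f7cdf17c62f7ce317bdf19c5f39bdf17ce717c6337be317ce717c5ef7bdf18c6338bded8c5f38c62f8be316b62f8b62f8be716c5ef8c6338be318b62f8c5af8bdf18b5f38c6338bdb18c62f9bdf17c62f7be317bdf17d5ef7bded7bdf17c62f7be319cdf17c6737cdf18c5af8ce718c5ef6c62f8be316c62f8c62f8bdf18c66f8b6338be316c5af8c62f8cdf18b66f8c5af8be318b62f7be719c62f7be317bdf19c5ef7ce718c62f8be6d8c66f8c62f6bdb18c62f7bdf17c6339ce319bdf17c5ef7be718c62f6cded8c5ef8c6338be2d8c62f8c5b38bdf16c66f8c62f8be2d8c62f8c62f8be718c5f38c5af8be2d8c5af8c6336be718b5ef8b62f8be318c62f8b6338cdf18c5ef8c62f8bdb18c5af9bdf17c62f7be317bdf17b5ef7bdf5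

theorem okA : okN nA = true := by decide +kernel
theorem okX : okN nX = true := by decide +kernel
theorem okY : okN nY = true := by decide +kernel

/-- element -/
def gA : Co0 := mk (ok_of_okN okA)
theorem repA : Rep gA (dec nA) := rep_mk _
/-- element -/
def gX : Co0 := mk (ok_of_okN okX)
theorem repX : Rep gX (dec nX) := rep_mk _
/-- element -/
def gY : Co0 := mk (ok_of_okN okY)
theorem repY : Rep gY (dec nY) := rep_mk _

/-- the elements -/
def e : ℕ → Co0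
  | 0 => gA
  | 1 => gX
  | _ => gY

/-- their matrices -/
def Ms : ℕ → List (List ℤ)
  | 0 => dec nA
  | 1 => dec nX
  | _ => dec nY

theorem hM : ∀ i, Rep (e i) (Ms i)
  | 0 => repA
  | 1 => repX
  | _ + 2 => repY

theorem a_sq : gA ^ 2 = 1 := by
  have h := eq_of_eqB hM (w := [0, 0]) (w' := []) (by decide +kernel)
  simpa [e, pow_succ, mul_assoc] using h
theorem a_ne : gA ≠ 1 := by
  have h := ne_of_neB' hM (w := [0]) (w' := []) (by decide +kernel)
  simpa [e, pow_succ, mul_assoc] using h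
theorem x_pow : gX ^ 5 = 1 := by
  have h := eq_of_eqB hM (w := [1, 1, 1, 1, 1]) (w' := []) (by decide +kernel)
  simpa [e, pow_succ, mul_assoc] using h
theorem x_ne : gX ≠ 1 := by
  have h := ne_of_neB' hM (w := [1]) (w' := []) (by decide +kernel)
  simpa [e, pow_succ, mul_assoc] using h
theorem y_pow : gY ^ 5 = 1 := by
  have h := eq_of_eqB hM (w := [2, 2, 2, 2, 2]) (w' := []) (by decide +kernel)
  simpa [e, pow_succ, mul_assoc] using h
theorem y_ne : gY ≠ 1 := by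
  have h := ne_of_neB' hM (w := [2]) (w' := []) (by decide +kernel)
  simpa [e, pow_succ, mul_assoc] using h
theorem ya : gY * gA = gA * gY := by
  have h := eq_of_eqB hM (w := [2, 0]) (w' := [0, 2]) (by decide +kernel)
  simpa [e, pow_succ, mul_assoc] using h
theorem axax : gA * gX * (gA * gX) = 1 := by
  have h := eq_of_eqB hM (w := [0, 1, 0, 1]) (w' := []) (by decide +kernel)
  simpa [e, pow_succ, mul_assoc] using h

/-- fixed vectors and dual vectors -/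
def vwX : List (List ℤ × List ℤ) := [
  ([1, 1, 1, 1, 1, 1, 5, 1, -3, 1, 1, 1, -3, -3, 1, 1, 1, -3, -3, 1, -3, 1, 1, 1],
   [-2, 0, 0, 0, 2, -2, 2, 2, -2, 2, -4, -4, -2, 2, -2, 2, 0, -2, -2, -2, -2, 0, -2, 0]),
  ([1, -1, -1, -1, 3, -1, -3, -1, 1, 3, -1, -1, 1, 1, -1, -1, -1, 1, 1, 3, -3, -1, 3, -5],
   [-1, -1, -3, -1, -5, -1, -1, 1, 1, 1, -1, 3, -1, -1, -1, -3, -1, -1, -3, 1, -1, -1, -1, 1]),
  ([1, -1, -1, 1, 1, 1, 3, -3, -3, 1, -3, 3, 1, 3, 1, 1, 1, 3, 5, -3, -1, 1, 1, -1],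
   [0, 2, -2, 2, 0, 0, -6, -2, -2, -2, 0, 0, 0, 0, 0, -2, -2, -2, -2, 0, 0, 0, 2, 0]),
  ([3, 1, 3, 1, -1, 1, 1, -1, -3, 1, 1, 1, 1, 1, -3, 1, 1, -1, -1, -3, 3, -3, 1, -1],
   [-2, 0, 0, 0, -2, -2, -2, 2, -2, -2, 2, 2, 4, 0, 0, -2, 0, 0, -2, -2, 0, 0, 0, 0]),
  ([1, 1, 1, 1, -3, 1, -1, -3, -1, -1, -1, 1, -1, -1, -1, -1, -1, 3, 1, -1, 3, 1, 1, -3],
   [1, 1, 3, -3, -3, -3, -1, -1, -1, -1, -3, 1, 1, -3, -1, 1, 1, -3, 1, 1, 1, -1, -1, 1]),
  ([0, 0, 0, -2, -2, 2, 0, 2, 0, 0, 2, 0, 0, 2, 2, 0, 0, 0, -2, -2, 4, 2, 2, -2],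
   [0, 0, 2, -2, 0, 0, 4, 2, 2, 2, 0, 4, 2, -2, 0, -2, 0, -2, 0, 0, 0, 2, 2, 2]),
  ([1, -1, 1, -1, 1, 3, -5, 1, 1, 3, 1, -1, 1, 1, 1, -1, -1, 1, -1, 1, 1, 3, -1, 3],
   [0, 2, 2, 2, 2, -2, 4, 0, 0, 4, 0, 0, 0, -2, 0, 0, 0, -2, -2, -2, -2, 0, -2, -2]),
  ([-2, -2, -2, 0, -4, 0, -4, 4, -2, 0, 0, -2, -2, -4, 0, 0, 0, 0, 2, 0, 0, 0, 0, 2],
   [1, 3, 1, 1, -1, -1, 1, 1, 1, 1, 5, 1, 1, -1, 1, -1, 1, 1, 3, 1, 1, 3, -1, -3])]

theorem frX : fr (QuotientGroup.mk gX : Co1) = 2 ^ 8 :=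
  Cfsg.Agent.MFive.FixN.card_fix (n := 5) (by decide) repX (vw := vwX) (by decide +kernel) (by decide +kernel)
    (by decide +kernel) (by decide +kernel)

/-- fixed vectors and dual vectors -/
def vwY : List (List ℤ × List ℤ) := [
  ([-3, 1, 1, 1, 1, 1, 1, 1, 1, 1, 1, 1, 1, 1, 1, 1, 1, 1, 1, 1, 1, 1, 1, 1],
   [-2, 0, 0, 0, 0, 0, 0, 0, 0, 0, 0, 0, -2, 0, -2, 0, -2, -2, -2, 0, 0, 0, -2, -2]),
  ([-1, 3, -3, 1, -1, 1, 1, 3, -1, -1, -1, -1, -1, -3, -1, -1, -1, -1, -1, 3, -1, -3, 1, -3],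
   [3, -1, 1, 1, -1, 3, 3, 3, -1, -1, -1, -1, -1, -1, 3, 1, -1, 1, -1, 1, 1, 1, -1, 1]),
  ([2, 2, 2, 2, 2, 2, -2, 2, -2, 2, 2, 2, -2, -2, 2, 2, 2, -2, -2, 2, -2, 2, 2, -2],
   [-2, 0, 0, 0, -2, -2, -2, 2, -2, -2, 2, 2, 4, 0, 0, -2, 0, 0, -2, -2, 0, 0, 0, 0]),
  ([1, -1, 1, 1, -1, 1, -1, -1, 1, -1, -1, -1, 1, -1, -1, -1, -1, 1, 1, -1, 1, 1, 1, -3],
   [0, -2, 0, 0, 0, 0, 0, 0, 0, 0, 0, 0, -2, -2, -2, -2, -2, 0, 0, -2, 0, 0, -2, 0])]

theorem frY : fr (QuotientGroup.mk gY : Co1) = 2 ^ 4 :=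
  Cfsg.Agent.MFive.FixN.card_fix (n := 5) (by decide) repY (vw := vwY) (by decide +kernel) (by decide +kernel)
    (by decide +kernel) (by decide +kernel)

theorem fr_ne : fr (QuotientGroup.mk gX : Co1) ≠ fr (QuotientGroup.mk gY : Co1) := by
  rw [frX, frY]; norm_num

theorem memA : gA.1 ∈ Spor.McL := mem_McL repA (by decide +kernel) (by decide +kernel)
theorem memX : gX.1 ∈ Spor.McL := mem_McL repX (by decide +kernel) (by decide +kernel)
theorem memY : gY.1 ∈ Spor.McL := mem_McL repY (by decide +kernel) (by decide +kernel)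

end Cfsg.Agent.H799.RO.McLFive
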