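import Cfsg.Agent.H101.RealOdd
import Cfsg.Agent.H153.ZerosMcL
import Cfsg.Agent.H799.RO.McLFive

/-!
# `McL` has a real element of order 5 with centralizer of odd order (helper799, S2248)

The elements of order 5 commuting with an involution generate conjugate subgroups (`C(t) = 2.A₈`, Sylow); `gX` and `gY`
have different numbers of fixed points on `Λ / 2Λ`.
-/

set_option autoImplicit false

namespace Cfsg.Agent.H799.RO.RowMcL

open Subgroup Cfsg Cfsg.Agent.H101.RO Cfsg.Agent.TypeM.Two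

universe u

/-- In a group with one class of involutions with centralizers of order divisible by `p` exactly once, the elements of
order `p` commuting with involutions generate conjugate subgroups. -/
theorem conj_of_comm {G : Type*} [Group G] [Finite G] {t : G} (hone : ∀ s : G, s * s = 1 → s ≠ 1 → ∃ g, g * t * g⁻¹ = s)
    {p : ℕ} (hp : p.Prime) (h1 : ¬ p ^ 2 ∣ Nat.card (centralizer ({t} : Set G))) {s x s' y : G}
    (hs2 : s * s = 1) (hs1 : s ≠ 1) (hx : orderOf x = p) (hc : x * s = s * x)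
    (hs2' : s' * s' = 1) (hs1' : s' ≠ 1) (hy : orderOf y = p) (hc' : y * s' = s' * y) :
    ∃ (g : G) (k : ℕ), g * x * g⁻¹ = y ^ k := by
  have hfp : Fact p.Prime := ⟨hp⟩
  obtain ⟨g, hg⟩ := hone s hs2 hs1
  obtain ⟨g', hg'⟩ := hone s' hs2' hs1'
  have hcomm : ∀ {s x g : G}, g * t * g⁻¹ = s → x * s = s * x → (g⁻¹ * x * g) * t = t * (g⁻¹ * x * g) := by
    intro s x g hg hc
    have h1 : t = g⁻¹ * s * g := by rw [← hg]; group
    rw [h1]
    calc g⁻¹ * x * g * (g⁻¹ * s * g) = g⁻¹ * (x * s) * g := by group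
      _ = g⁻¹ * (s * x) * g := by rw [hc]
      _ = _ := by group
  have hord : ∀ {x g : G}, orderOf x = p → orderOf (g⁻¹ * x * g) = p := by
    intro x g hx
    rw [← hx]
    have h2 := orderOf_injective (MulAut.conj g⁻¹).toMonoidHom (MulAut.conj g⁻¹).injective x
    simpa [MulAut.conj_apply] using h2
  let C := centralizer ({t} : Set G)
  let xc : C := ⟨g⁻¹ * x * g, mem_centralizer_singleton_iff.2 (hcomm hg hc)⟩
  let yc : C := ⟨g'⁻¹ * y * g', mem_centralizer_singleton_iff.2 (hcomm hg' hc')⟩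
  have hxc : orderOf xc = p := by rw [← hord (g := g) hx]; exact Subgroup.orderOf_mk _ _
  have hyc : orderOf yc = p := by rw [← hord (g := g') hy]; exact Subgroup.orderOf_mk _ _
  have hsyl : ∀ z : C, orderOf z = p → ∃ P : Sylow p C, (P : Subgroup C) = zpowers z := by
    intro z hz
    have hfac : (Nat.card C).factorization p = 1 := by
      have h0 : Nat.card C ≠ 0 := Nat.card_pos.ne'
      have h2 : 1 ≤ (Nat.card C).factorization p := by
        rw [← hp.pow_dvd_iff_le_factorization h0, pow_one, ← hz]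
        exact orderOf_dvd_natCard z
      have h3 : ¬ 2 ≤ (Nat.card C).factorization p := fun h => h1 ((hp.pow_dvd_iff_le_factorization h0).2 h)
      omega
    exact ⟨Sylow.ofCard (zpowers z) (by rw [Nat.card_zpowers, hz, hfac, pow_one]), rfl⟩
  obtain ⟨P, hP⟩ := hsyl xc hxc
  obtain ⟨Q, hQ⟩ := hsyl yc hyc
  obtain ⟨c, hcc⟩ := MulAction.exists_smul_eq C P Q
  have hmem : c * xc * c⁻¹ ∈ zpowers yc := by
    rw [← hQ, ← hcc, Sylow.coe_subgroup_smul]
    exact Subgroup.smul_mem_pointwise_smul xc (MulAut.conj c) (P : Subgroup C) (by rw [hP]; exact mem_zpowers xc)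
  have hf : IsOfFinOrder yc := orderOf_pos_iff.1 (by rw [hyc]; exact hp.pos)
  obtain ⟨k, hk⟩ := (hf.mem_powers_iff_mem_zpowers (y := c * xc * c⁻¹)).2 hmem
  refine ⟨g' * c * g⁻¹, k, ?_⟩
  have e1 : g' * c * g⁻¹ * x * (g' * c * g⁻¹)⁻¹ = g' * ((c * xc * c⁻¹ : C) : G) * g'⁻¹ := by
    change _ = g' * ((c : G) * (g⁻¹ * x * g) * (c : G)⁻¹) * g'⁻¹
    group
  have hk' : yc ^ k = c * xc * c⁻¹ := hk
  rw [e1, ← hk']
  change g' * (g'⁻¹ * y * g') ^ k * g'⁻¹ = y ^ k
  have e2 : g'⁻¹ * y * g' = g'⁻¹ * y * g'⁻¹⁻¹ := by rw [inv_inv]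
  rw [e2, conj_pow]
  group

open McLFive Cfsg.Agent.H573.Spor.Co0 in
theorem real_McL : RealOdd ↥Spor.McL := by
  obtain ⟨hfin, -, hcard, ⟨L⟩⟩ := TypeM.FactsMcL.facts (M := ↥Spor.McL) ⟨MulEquiv.refl _⟩
  have hc : Nat.card (centralizer ({L.t} : Set Spor.McL)) = Nat.factorial 8 :=
    TypeM.FactsAut.card_centralizer L (by norm_num)
  have p5 : Nat.Prime 5 := by norm_num
  have f5 : Fact (Nat.Prime 5) := ⟨p5⟩
  let x : Spor.McL := ⟨gX.1, memX⟩
  let y : Spor.McL := ⟨gY.1, memY⟩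
  let a : Spor.McL := ⟨gA.1, memA⟩
  have cv : ∀ {g h : Co0}, g = h → g.1 = h.1 := fun h => congrArg Subtype.val h
  have cw : ∀ {g : Co0} {hg : g.1 ∈ Spor.McL}, (⟨g.1, hg⟩ : Spor.McL) = 1 → g = 1 := fun h =>
    Subtype.ext (show _ = (1 : Equiv.Perm leechLattice) from congrArg Subtype.val h)
  have hx : orderOf x = 5 := orderOf_eq_prime (Subtype.ext (show gX.1 ^ 5 = 1 from cv x_pow)) (fun h => x_ne (cw h))
  have hy : orderOf y = 5 := orderOf_eq_prime (Subtype.ext (show gY.1 ^ 5 = 1 from cv y_pow)) (fun h => y_ne (cw h))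
  have ha2 : a * a = 1 := by
    have h := a_sq
    rw [pow_two] at h
    exact Subtype.ext (show gA.1 * gA.1 = 1 from cv h)
  have ha1 : a ≠ 1 := fun h => a_ne (cw h)
  have hya : y * a = a * y := Subtype.ext (show gY.1 * gA.1 = gA.1 * gY.1 from cv ya)
  have hax : a * x * (a * x) = 1 := Subtype.ext (show gA.1 * gX.1 * (gA.1 * gX.1) = 1 from cv axax)
  refine RealOdd.of_elts (x := x) (y := a) (p := 5) (k := 1) p5 (by norm_num) le_rfl (by rw [hx]; norm_num) ?_ ?_
  · have h1 : a⁻¹ = a := inv_eq_of_mul_eq_one_left ha2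
    rw [h1, eq_inv_iff_mul_eq_one, mul_assoc]
    exact hax
  · intro s hs hsx
    have hs2 : s * s = 1 := by rw [← pow_two, ← hs, pow_orderOf_eq_one]
    have hs1 : s ≠ 1 := fun h => by rw [h, orderOf_one] at hs; norm_num at hs
    obtain ⟨g, k, hg⟩ := conj_of_comm L.one p5 (by rw [hc]; norm_num [Nat.factorial]) hs2 hs1 hx hsx.symm ha2 ha1 hy hya
    have hX : (Spor.McL : Subgroup (Equiv.Perm leechLattice)) ≤ Co0 := fun g hg => hg.1.1
    have hk : orderOf (y ^ k) = 5 := by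
      rw [← hg, ← hx]
      have h2 := orderOf_injective (MulAut.conj g).toMonoidHom (MulAut.conj g).injective x
      simpa [MulAut.conj_apply] using h2
    have hz : zpowers (y ^ k) = zpowers y := by
      apply Subgroup.eq_of_le_of_card_ge
      · rw [zpowers_le]; exact pow_mem (mem_zpowers _) k
      · rw [Nat.card_zpowers, Nat.card_zpowers, hk, hy]
    have hm : y ∈ zpowers (y ^ k) := by rw [hz]; exact mem_zpowers _
    obtain ⟨m, hm⟩ := mem_zpowers_iff.1 hm
    apply fr_ne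
    have e1 : toCo1 _ hX x = (QuotientGroup.mk gX : Spor.Co1) := rfl
    have e2 : toCo1 _ hX y = (QuotientGroup.mk gY : Spor.Co1) := rfl
    rw [← e1, ← e2]
    refine fr_eq_of_conj (u := toCo1 _ hX g) (k := k) (m := m) ?_ ?_
    · rw [← map_inv, ← map_mul, ← map_mul, hg, map_pow]
    · rw [← map_pow, ← map_zpow, hm]

/-- **`McL`.** -/
theorem ro_McL {G : Type u} [Group G] [Finite G] (h : Cfsg.Spor.IsoMcL G) : Cfsg.Agent.H101.RO.RealOdd G := by
  obtain ⟨e⟩ := h
  exact RealOdd.congr e.symm real_McL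

end Cfsg.Agent.H799.RO.RowMcL
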